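import Mathlib

/-!
# The trace of `h²` on an irreducible representation of an `sl₂`-triple
-/

set_option autoImplicit false
set_option linter.style.haveILetI false

universe u v w

open LieModule

namespace Groth.Agent.Sl2Lib

theorem six_mul_choose_three (n : ℕ) : 6 * (n + 2).choose 3 = (n + 2) * (n + 1) * n := by
  have h := Nat.descFactorial_eq_factorial_mul_choose (n + 2) 3
  simp only [Nat.descFactorial, Nat.factorial] at h
  simp only [show n + 2 - 2 = n by omega, show n + 2 - 1 = n + 1 by omega, Nat.sub_zero] at h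
  linarith

theorem sum_sq_aux {k : Type u} [CommRing k] (a : k) (n : ℕ) :
    3 * ∑ j ∈ Finset.range n, (a - 2 * (j : k)) ^ 2 =
      3 * n * a ^ 2 - 6 * a * n * (n - 1) + 2 * n * (n - 1) * (2 * n - 1) := by
  induction n with
  | zero => simp
  | succ n ih => rw [Finset.sum_range_succ, mul_add, ih]; push_cast; ring

theorem trace_sq_of_irreducible (k : Type u) [Field k] [IsAlgClosed k] [CharZero k]
    {L : Type v} [LieRing L] [LieAlgebra k L] {h e f : L} (t : IsSl2Triple h e f)
    (hspan : t.toLieSubalgebra k = ⊤)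
    (W : Type w) [AddCommGroup W] [Module k W] [LieRingModule L W] [LieModule k L W]
    [FiniteDimensional k W] [LieModule.IsIrreducible k L W] :
    LinearMap.trace k W ((toEnd k L W h) ^ 2) = 2 * (((Module.finrank k W + 1).choose 3 : ℕ) : k) := by
  classical
  haveI : Nontrivial W := (LieSubmodule.nontrivial_iff k L W).1 inferInstance
  obtain ⟨μ, v, hv, P⟩ := t.exists_hasPrimitiveVectorWith (R := k) (M := W)
  obtain ⟨m, rfl⟩ := P.exists_nat
  let ψ : ℕ → W := fun n => ((toEnd k L W f) ^ n) v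
  have hli : LinearIndependent k (fun i : Fin (m + 1) => ψ i) := by
    refine Module.End.eigenvectors_linearIndependent' (toEnd k L W h) (fun i : Fin (m + 1) => (m : k) - 2 * (i : ℕ))
      (fun a b hab => Fin.ext (by simpa using hab)) _ fun i => ?_
    exact Module.End.hasEigenvector_iff.2 ⟨Module.End.mem_eigenspace_iff.2 (P.lie_h_pow_toEnd_f i),
      P.pow_toEnd_f_ne_zero_of_eq_nat rfl (Nat.lt_succ_iff.1 i.2)⟩
  let S : Submodule k W := Submodule.span k (Set.range fun i : Fin (m + 1) => ψ i)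
  have hψ : ∀ n, ψ n ∈ S := by
    intro n
    by_cases hn : n < m + 1
    · exact Submodule.subset_span ⟨⟨n, hn⟩, rfl⟩
    · have h0 : ψ (m + 1) = 0 := P.pow_toEnd_f_eq_zero_of_eq_nat rfl
      obtain ⟨d, rfl⟩ := Nat.exists_eq_add_of_le (not_lt.1 hn)
      have : ψ (m + 1 + d) = 0 := by
        show ((toEnd k L W f) ^ (m + 1 + d)) v = 0
        rw [add_comm (m + 1) d, pow_add, Module.End.mul_apply]
        exact (congrArg _ h0).trans (map_zero _)
      rw [this]
      exact S.zero_mem
  have hstab : ∀ (x : L), (∀ n, ⁅x, ψ n⁆ ∈ S) → ∀ w ∈ S, ⁅x, w⁆ ∈ S := by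
    intro x hx w hw
    induction hw using Submodule.span_induction with
    | mem w hw => obtain ⟨i, rfl⟩ := hw; exact hx i
    | zero => rw [lie_zero]; exact S.zero_mem
    | add a b _ _ ha hb => rw [lie_add]; exact S.add_mem ha hb
    | smul c a _ ha => rw [lie_smul]; exact S.smul_mem c ha
  have he : ∀ n, ⁅e, ψ n⁆ ∈ S := by
    intro n
    cases n with
    | zero => show ⁅e, v⁆ ∈ S; rw [P.lie_e]; exact S.zero_mem
    | succ n => rw [P.lie_e_pow_succ_toEnd_f n]; exact S.smul_mem _ (hψ n)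
  have hf : ∀ n, ⁅f, ψ n⁆ ∈ S := fun n => by rw [P.lie_f_pow_toEnd_f n]; exact hψ (n + 1)
  have hh : ∀ n, ⁅⁅e, f⁆, ψ n⁆ ∈ S := fun n => by
    rw [t.lie_e_f, P.lie_h_pow_toEnd_f n]; exact S.smul_mem _ (hψ n)
  let N : LieSubmodule k L W :=
    { S with
      lie_mem := fun {x w} hw => by
        obtain ⟨c₁, c₂, c₃, rfl⟩ := IsSl2Triple.mem_toLieSubalgebra_iff.1 (hspan ▸ LieSubalgebra.mem_top x)
        simp only [add_lie, smul_lie]
        exact S.add_mem (S.add_mem (S.smul_mem _ (hstab e he w hw)) (S.smul_mem _ (hstab f hf w hw)))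
          (S.smul_mem _ (hstab _ hh w hw)) }
  have hN : N = ⊤ := (eq_bot_or_eq_top N).resolve_left fun hb => P.ne_zero (by
    have : v ∈ N := hψ 0
    rwa [hb, LieSubmodule.mem_bot] at this)
  have hS : ⊤ ≤ S := fun x _ => by
    have : x ∈ N := hN ▸ LieSubmodule.mem_top x
    exact this
  let b : Module.Basis (Fin (m + 1)) k W := Module.Basis.mk hli hS
  rw [Module.finrank_eq_card_basis b, Fintype.card_fin, LinearMap.trace_eq_matrix_trace k b, Matrix.trace]
  have hdiag : ∀ i : Fin (m + 1), (LinearMap.toMatrix b b ((toEnd k L W h) ^ 2)).diag i = ((m : k) - 2 * (i : ℕ)) ^ 2 := by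
    intro i
    have hb : b i = ψ i := Module.Basis.mk_apply hli hS i
    have : ((toEnd k L W h) ^ 2) (b i) = (((m : k) - 2 * (i : ℕ)) ^ 2) • b i := by
      rw [sq, Module.End.mul_apply, toEnd_apply_apply, toEnd_apply_apply, hb, P.lie_h_pow_toEnd_f, lie_smul,
        P.lie_h_pow_toEnd_f, smul_smul, sq]
    rw [Matrix.diag_apply, LinearMap.toMatrix_apply, this, map_smul, b.repr_self, Finsupp.smul_apply,
      Finsupp.single_eq_same, smul_eq_mul, mul_one]
  rw [Finset.sum_congr rfl fun i _ => hdiag i, Fin.sum_univ_eq_sum_range fun j => ((m : k) - 2 * (j : k)) ^ 2]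
  have h6 : (6 : k) * ((((m + 2).choose 3 : ℕ)) : k) = ((m : k) + 2) * ((m : k) + 1) * m := by
    exact_mod_cast congrArg (fun x : ℕ => (x : k)) (six_mul_choose_three m)
  have h3 := sum_sq_aux (m : k) (m + 1)
  push_cast at h3
  show _ = 2 * ((((m + 2).choose 3 : ℕ)) : k)
  apply mul_left_cancel₀ (show (3 : k) ≠ 0 by norm_num)
  rw [h3]
  linear_combination (-1 : k) * h6

end Groth.Agent.Sl2Lib
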